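import Mathlib
import Cfsg.Agent.Classical.LinearBasic

/-!
The two elementary abelian subgroups of order 16 of a Sylow 2-subgroup of PSL(3,4)
and their normalizers.
-/

set_option backward.isDefEq.respectTransparency false

namespace Cfsg.Agent.PSLThreeFour

open Matrix
open scoped MatrixGroups

variable {F : Type*} [Field F]

local notation "mat3" => fun (x : SpecialLinearGroup (Fin 3) F) => (x : Matrix (Fin 3) (Fin 3) F)
local notation "mat2" => fun (x : SpecialLinearGroup (Fin 2) F) => (x : Matrix (Fin 2) (Fin 2) F)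

/-- unitriangular matrix -/
def tt (a b c : F) : SpecialLinearGroup (Fin 3) F :=
  ⟨!![1, a, c; 0, 1, b; 0, 0, 1], by simp [Matrix.det_fin_three]⟩

theorem tt_mul (a b c a' b' c' : F) :
    tt a b c * tt a' b' c' = tt (a + a') (b + b') (c + c' + a * b') := by
  apply Subtype.ext
  show !![1, a, c; 0, 1, b; 0, 0, 1] * !![1, a', c'; 0, 1, b'; 0, 0, 1] =
    !![1, a + a', c + c' + a * b'; 0, 1, b + b'; 0, 0, 1]
  ext i j
  fin_cases i <;> fin_cases j <;> simp [Matrix.mul_apply, Fin.sum_univ_three] <;> ring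

theorem tt_congr {a b c a' b' c' : F} (ha : a = a') (hb : b = b') (hc : c = c') :
    tt a b c = tt a' b' c' := by rw [ha, hb, hc]

theorem tt_zero : tt (0 : F) 0 0 = 1 := by
  apply Subtype.ext
  show !![(1 : F), 0, 0; 0, 1, 0; 0, 0, 1] = 1
  ext i j
  fin_cases i <;> fin_cases j <;> simp

theorem tt_inv (a b c : F) : (tt a b c)⁻¹ = tt (-a) (-b) (a * b - c) :=
  inv_eq_of_mul_eq_one_right (by rw [tt_mul, ← tt_zero]; apply tt_congr <;> ring)

local notation "Γ" => ProjectiveSpecialLinearGroup (Fin 3) F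

/-- the projection -/
abbrev pr : SpecialLinearGroup (Fin 3) F →* ProjectiveSpecialLinearGroup (Fin 3) F := QuotientGroup.mk' _

theorem pr_eq_iff {g h : SpecialLinearGroup (Fin 3) F} :
    pr g = pr h ↔ ∃ r : F, r ^ 3 = 1 ∧ (g : Matrix (Fin 3) (Fin 3) F) = r • (h : Matrix (Fin 3) (Fin 3) F) := by
  constructor
  · intro e
    have h1 : h⁻¹ * g ∈ Subgroup.center (SpecialLinearGroup (Fin 3) F) := QuotientGroup.eq.1 e.symm
    obtain ⟨r, hr3, hr⟩ := Matrix.SpecialLinearGroup.mem_center_iff.1 h1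
    refine ⟨r, by simpa using hr3, ?_⟩
    have hg : g = h * (h⁻¹ * g) := (mul_inv_cancel_left h g).symm
    rw [hg, Matrix.SpecialLinearGroup.coe_mul, ← hr, Matrix.scalar_apply, ← Matrix.smul_eq_mul_diagonal]
  · rintro ⟨r, hr3, hr⟩
    refine (QuotientGroup.eq.2 ?_).symm
    rw [Matrix.SpecialLinearGroup.mem_center_iff]
    refine ⟨r, by simpa using hr3, ?_⟩
    rw [Matrix.SpecialLinearGroup.coe_mul, hr, Matrix.mul_smul, ← Matrix.SpecialLinearGroup.coe_mul,
      inv_mul_cancel, Matrix.SpecialLinearGroup.coe_one, Matrix.scalar_apply, Matrix.smul_one_eq_diagonal]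

theorem pr_surjective : Function.Surjective (pr (F := F)) := QuotientGroup.mk'_surjective _

theorem pr_tt_injective {a b c a' b' c' : F} (h : pr (tt a b c) = pr (tt a' b' c')) :
    a = a' ∧ b = b' ∧ c = c' := by
  obtain ⟨r, -, hr⟩ := pr_eq_iff.1 h
  have e00 := congrFun (congrFun hr 0) 0
  have e01 := congrFun (congrFun hr 0) 1
  have e12 := congrFun (congrFun hr 1) 2
  have e02 := congrFun (congrFun hr 0) 2
  simp [tt] at e00 e01 e12 e02
  subst e00
  exact ⟨by simpa using e01, by simpa using e12, by simpa using e02⟩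

/-- the unitriangular subgroup -/
def T0 : Subgroup (ProjectiveSpecialLinearGroup (Fin 3) F) where
  carrier := {x | ∃ a b c, x = pr (tt a b c)}
  one_mem' := ⟨0, 0, 0, by rw [tt_zero, map_one]⟩
  mul_mem' := by
    rintro x y ⟨a, b, c, rfl⟩ ⟨a', b', c', rfl⟩
    exact ⟨_, _, _, by rw [← map_mul, tt_mul]⟩
  inv_mem' := by
    rintro x ⟨a, b, c, rfl⟩
    exact ⟨_, _, _, by rw [← map_inv, tt_inv]⟩

/-- first elementary subgroup -/
def U1 : Subgroup (ProjectiveSpecialLinearGroup (Fin 3) F) where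
  carrier := {x | ∃ b c, x = pr (tt 0 b c)}
  one_mem' := ⟨0, 0, by rw [tt_zero, map_one]⟩
  mul_mem' := by
    rintro x y ⟨b, c, rfl⟩ ⟨b', c', rfl⟩
    exact ⟨b + b', c + c', by rw [← map_mul, tt_mul]; congr 1; apply tt_congr <;> ring⟩
  inv_mem' := by
    rintro x ⟨b, c, rfl⟩
    exact ⟨-b, -c, by rw [← map_inv, tt_inv]; congr 1; apply tt_congr <;> ring⟩

/-- second elementary subgroup -/
def U2 : Subgroup (ProjectiveSpecialLinearGroup (Fin 3) F) where
  carrier := {x | ∃ a c, x = pr (tt a 0 c)}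
  one_mem' := ⟨0, 0, by rw [tt_zero, map_one]⟩
  mul_mem' := by
    rintro x y ⟨b, c, rfl⟩ ⟨b', c', rfl⟩
    exact ⟨b + b', c + c', by rw [← map_mul, tt_mul]; congr 1; apply tt_congr <;> ring⟩
  inv_mem' := by
    rintro x ⟨b, c, rfl⟩
    exact ⟨-b, -c, by rw [← map_inv, tt_inv]; congr 1; apply tt_congr <;> ring⟩

theorem U1_le : (U1 : Subgroup Γ) ≤ T0 := by rintro x ⟨b, c, rfl⟩; exact ⟨0, b, c, rfl⟩

theorem U2_le : (U2 : Subgroup Γ) ≤ T0 := by rintro x ⟨a, c, rfl⟩; exact ⟨a, 0, c, rfl⟩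

theorem elementary_le {W : Subgroup Γ} (hW : W ≤ T0) (h2 : ∀ x ∈ W, x ^ 2 = 1) :
    W ≤ U1 ∨ W ≤ U2 := by
  have key : ∀ x ∈ W, x ∈ (U1 : Subgroup Γ) ∨ x ∈ (U2 : Subgroup Γ) := by
    intro x hx
    obtain ⟨a, b, c, rfl⟩ := hW hx
    have h := h2 _ hx
    rw [pow_two, ← map_mul, tt_mul, ← map_one pr, ← tt_zero] at h
    obtain ⟨h1, h3, h5⟩ := pr_tt_injective h
    have hc : c + c = 0 := by
      have h1' : (1 : F) + 1 = 0 ∨ (a = 0 ∧ b = 0) := by
        by_cases h : (1 : F) + 1 = 0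
        · exact Or.inl h
        · right
          constructor
          · have : a * (1 + 1) = 0 := by linear_combination h1
            exact (mul_eq_zero.1 this).resolve_right h
          · have : b * (1 + 1) = 0 := by linear_combination h3
            exact (mul_eq_zero.1 this).resolve_right h
      rcases h1' with h | ⟨ha, hb⟩
      · linear_combination c * h
      · rw [ha] at h5; linear_combination h5
    have hab : a * b = 0 := by linear_combination h5 - hc
    rcases mul_eq_zero.1 hab with ha | hb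
    · exact Or.inl ⟨b, c, by rw [ha]⟩
    · exact Or.inr ⟨a, c, by rw [hb]⟩
  by_contra h
  push Not at h
  obtain ⟨h1, h2'⟩ := h
  obtain ⟨x, hxW, hx1⟩ := SetLike.not_le_iff_exists.1 h1
  obtain ⟨y, hyW, hy2⟩ := SetLike.not_le_iff_exists.1 h2'
  have hx2 := (key x hxW).resolve_left hx1
  have hy1 := (key y hyW).resolve_right hy2
  rcases key (x * y) (mul_mem hxW hyW) with h | h
  · exact hx1 (by simpa using mul_mem h (inv_mem hy1))
  · exact hy2 (by simpa using mul_mem (inv_mem hx2) h)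

theorem mem_inf_of_commute {x : Γ} (hx : x ∈ (T0 : Subgroup Γ)) (h1 : ∀ y ∈ (U1 : Subgroup Γ), Commute x y)
    (h2 : ∀ y ∈ (U2 : Subgroup Γ), Commute x y) : x ∈ (U1 : Subgroup Γ) ∧ x ∈ (U2 : Subgroup Γ) := by
  obtain ⟨a, b, c, rfl⟩ := hx
  have e1 := (h1 (pr (tt 0 1 0)) ⟨1, 0, rfl⟩).eq
  have e2 := (h2 (pr (tt 1 0 0)) ⟨1, 0, rfl⟩).eq
  rw [← map_mul, ← map_mul, tt_mul, tt_mul] at e1 e2
  have ha : a = 0 := by linear_combination (pr_tt_injective e1).2.2
  have hb : b = 0 := by linear_combination -(pr_tt_injective e2).2.2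
  exact ⟨⟨b, c, by rw [ha]⟩, ⟨a, c, by rw [hb]⟩⟩

theorem card_T0 : Nat.card ↥(T0 : Subgroup Γ) = Nat.card F ^ 3 := by
  let f : F × F × F → ↥(T0 : Subgroup Γ) := fun p => ⟨pr (tt p.1 p.2.1 p.2.2), p.1, p.2.1, p.2.2, rfl⟩
  have hf : Function.Bijective f := by
    refine ⟨fun p q h => ?_, fun x => ?_⟩
    · obtain ⟨h1, h2, h3⟩ := pr_tt_injective (congrArg Subtype.val h :)
      exact Prod.ext h1 (Prod.ext h2 h3)
    · obtain ⟨a, b, c, h⟩ := x.2
      exact ⟨(a, b, c), Subtype.ext h.symm⟩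
  rw [← Nat.card_congr (Equiv.ofBijective f hf), Nat.card_prod, Nat.card_prod]
  ring

theorem card_U1 : Nat.card ↥(U1 : Subgroup Γ) = Nat.card F ^ 2 := by
  let f : F × F → ↥(U1 : Subgroup Γ) := fun p => ⟨pr (tt 0 p.1 p.2), p.1, p.2, rfl⟩
  have hf : Function.Bijective f := by
    refine ⟨fun p q h => ?_, fun x => ?_⟩
    · obtain ⟨-, h2, h3⟩ := pr_tt_injective (congrArg Subtype.val h :)
      exact Prod.ext h2 h3
    · obtain ⟨b, c, h⟩ := x.2
      exact ⟨(b, c), Subtype.ext h.symm⟩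
  rw [← Nat.card_congr (Equiv.ofBijective f hf), Nat.card_prod]
  ring

theorem card_U2 : Nat.card ↥(U2 : Subgroup Γ) = Nat.card F ^ 2 := by
  let f : F × F → ↥(U2 : Subgroup Γ) := fun p => ⟨pr (tt p.1 0 p.2), p.1, p.2, rfl⟩
  have hf : Function.Bijective f := by
    refine ⟨fun p q h => ?_, fun x => ?_⟩
    · obtain ⟨h2, -, h3⟩ := pr_tt_injective (congrArg Subtype.val h :)
      exact Prod.ext h2 h3
    · obtain ⟨b, c, h⟩ := x.2
      exact ⟨(b, c), Subtype.ext h.symm⟩
  rw [← Nat.card_congr (Equiv.ofBijective f hf), Nat.card_prod]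
  ring

/-- `W` is normalized by a group inducing `PSL₂` transitively. -/
def Good (W : Subgroup (ProjectiveSpecialLinearGroup (Fin 3) F)) : Prop :=
  T0 ≤ Subgroup.normalizer (W : Set (ProjectiveSpecialLinearGroup (Fin 3) F)) ∧
  (∃ φ : ↥(Subgroup.normalizer (W : Set (ProjectiveSpecialLinearGroup (Fin 3) F))) →*
      ProjectiveSpecialLinearGroup (Fin 2) F,
    Function.Surjective φ ∧
      φ.ker = W.subgroupOf (Subgroup.normalizer (W : Set (ProjectiveSpecialLinearGroup (Fin 3) F)))) ∧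
  ∀ x ∈ W, ∀ y ∈ W, x ≠ 1 → y ≠ 1 →
    ∃ n ∈ Subgroup.normalizer (W : Set (ProjectiveSpecialLinearGroup (Fin 3) F)), n * x * n⁻¹ = y

/-- stabilizer of a line -/
def P1 (F : Type*) [Field F] : Subgroup (SpecialLinearGroup (Fin 3) F) where
  carrier := {g | (g : Matrix (Fin 3) (Fin 3) F) 2 0 = 0 ∧ (g : Matrix (Fin 3) (Fin 3) F) 2 1 = 0}
  one_mem' := by simp
  mul_mem' := by
    rintro g h ⟨g0, g1⟩ ⟨h0, h1⟩
    constructor <;> simp [Matrix.mul_apply, Fin.sum_univ_three, g0, g1, h0, h1]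
  inv_mem' := by
    rintro g ⟨g0, g1⟩
    have hd : (g : Matrix (Fin 3) (Fin 3) F) 2 2 ≠ 0 := fun h => by
      have := g.2
      rw [Matrix.det_fin_three, g0, g1, h] at this
      simp at this
    have hm : (g : Matrix (Fin 3) (Fin 3) F) * ((g⁻¹ : SpecialLinearGroup (Fin 3) F) : Matrix (Fin 3) (Fin 3) F) = 1 :=
      congrArg (fun x : SpecialLinearGroup (Fin 3) F => (x : Matrix (Fin 3) (Fin 3) F)) (mul_inv_cancel g)
    constructor
    · have := congrFun (congrFun hm 2) 0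
      simp only [Matrix.mul_apply, Fin.sum_univ_three, g0, g1, zero_mul,
        zero_add] at this
      rw [Matrix.one_apply_ne (by decide)] at this
      exact (mul_eq_zero.1 this).resolve_left hd
    · have := congrFun (congrFun hm 2) 1
      simp only [Matrix.mul_apply, Fin.sum_univ_three, g0, g1, zero_mul,
        zero_add] at this
      rw [Matrix.one_apply_ne (by decide)] at this
      exact (mul_eq_zero.1 this).resolve_left hd

theorem corner_ne_zero {g : SpecialLinearGroup (Fin 3) F} (hg : g ∈ P1 F) :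
    (g : Matrix (Fin 3) (Fin 3) F) 2 2 ≠ 0 := fun h => by
  have := g.2
  rw [Matrix.det_fin_three, hg.1, hg.2, h] at this
  simp at this

theorem conj_tt {g : SpecialLinearGroup (Fin 3) F} (hg : g ∈ P1 F) (b c : F) :
    g * tt 0 b c * g⁻¹ = tt 0 (((g : Matrix (Fin 3) (Fin 3) F) 1 0 * c + (g : Matrix (Fin 3) (Fin 3) F) 1 1 * b) / (g : Matrix (Fin 3) (Fin 3) F) 2 2)
      (((g : Matrix (Fin 3) (Fin 3) F) 0 0 * c + (g : Matrix (Fin 3) (Fin 3) F) 0 1 * b) / (g : Matrix (Fin 3) (Fin 3) F) 2 2) := by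
  rw [mul_inv_eq_iff_eq_mul]
  have hd := corner_ne_zero hg
  apply Subtype.ext
  ext i j
  fin_cases i <;> fin_cases j <;>
    simp [tt, Matrix.mul_apply, Fin.sum_univ_three, hg.1, hg.2] <;> field_simp <;> ring

variable [Fintype F]

theorem two_eq_zero (hF : Fintype.card F = 4) : (2 : F) = 0 := by
  have h : ((Fintype.card F : ℕ) : F) = 0 := FiniteField.cast_card_eq_zero F
  rw [hF] at h
  have : (2 : F) * 2 = 0 := by push_cast at h; linear_combination h
  simpa using this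

theorem cube_eq_one (hF : Fintype.card F = 4) {d : F} (hd : d ≠ 0) : d ^ 3 = 1 := by
  have := FiniteField.pow_card_sub_one_eq_one d hd
  rwa [hF] at this

theorem mem_normalizer_iff (hF : Fintype.card F = 4) (g : SpecialLinearGroup (Fin 3) F) :
    pr g ∈ Subgroup.normalizer ((U1 : Subgroup Γ) : Set Γ) ↔ g ∈ P1 F := by
  constructor
  · intro hg
    have key : ∀ b c : F, (g : Matrix (Fin 3) (Fin 3) F) 2 0 * c + (g : Matrix (Fin 3) (Fin 3) F) 2 1 * b = 0 := by
      intro b c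
      obtain ⟨b', c', e⟩ := (Subgroup.mem_normalizer_iff.1 hg (pr (tt 0 b c))).1 ⟨b, c, rfl⟩
      rw [← map_inv, ← map_mul, ← map_mul] at e
      obtain ⟨r, hr3, hr⟩ := pr_eq_iff.1 e
      have htr : Matrix.trace ((g * tt 0 b c * g⁻¹ : SpecialLinearGroup (Fin 3) F) : Matrix (Fin 3) (Fin 3) F) = 1 := by
        have hm : mat3 g⁻¹ * mat3 g = 1 := congrArg mat3 (inv_mul_cancel g)
        change Matrix.trace ((mat3 g * mat3 (tt 0 b c)) * mat3 g⁻¹) = 1
        rw [Matrix.trace_mul_comm, ← Matrix.mul_assoc, hm, Matrix.one_mul]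
        simp [tt, Matrix.trace_fin_three]
        linear_combination two_eq_zero hF
      rw [hr, Matrix.trace_smul] at htr
      simp [tt, Matrix.trace_fin_three] at htr
      have hr1 : r = 1 := by linear_combination htr - r * two_eq_zero hF
      rw [hr1, one_smul] at hr
      have e2 : g * tt 0 b c = tt 0 b' c' * g := mul_inv_eq_iff_eq_mul.1 (Subtype.ext hr)
      have := congrFun (congrFun (congrArg mat3 e2) 2) 2
      simp [tt, Matrix.mul_apply, Fin.sum_univ_three] at this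
      linear_combination this
    exact ⟨by simpa using key 0 1, by simpa using key 1 0⟩
  · intro hg
    rw [Subgroup.mem_normalizer_iff]
    intro x
    constructor
    · rintro ⟨b, c, rfl⟩
      exact ⟨_, _, by rw [← map_inv, ← map_mul, ← map_mul, conj_tt hg]⟩
    · rintro ⟨b, c, hx⟩
      have : x = (pr g)⁻¹ * pr (tt 0 b c) * pr g := by rw [← hx]; group
      rw [this, ← map_inv, ← map_mul, ← map_mul]
      have h := conj_tt (inv_mem hg) b c
      rw [inv_inv] at h
      exact ⟨_, _, by rw [h]⟩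

/-- the Levi part of an element of `P1` -/
noncomputable def lev (hF : Fintype.card F = 4) : ↥(P1 F) →* SpecialLinearGroup (Fin 2) F where
  toFun g := ⟨((g.1 : Matrix (Fin 3) (Fin 3) F) 2 2) ^ 2 • !![(g.1 : Matrix (Fin 3) (Fin 3) F) 0 0, (g.1 : Matrix (Fin 3) (Fin 3) F) 0 1; (g.1 : Matrix (Fin 3) (Fin 3) F) 1 0, (g.1 : Matrix (Fin 3) (Fin 3) F) 1 1], by
    have h := g.1.2
    rw [Matrix.det_fin_three, g.2.1, g.2.2] at h
    have h3 := cube_eq_one hF (corner_ne_zero g.2)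
    simp [Matrix.det_fin_two]
    linear_combination ((g.1 : Matrix (Fin 3) (Fin 3) F) 2 2) ^ 3 * h + h3⟩
  map_one' := by
    apply Subtype.ext
    ext i j
    fin_cases i <;> fin_cases j <;> simp
  map_mul' g h := by
    apply Subtype.ext
    ext i j
    have hg := g.2
    have hh := h.2
    fin_cases i <;> fin_cases j <;>
      simp [Matrix.mul_apply, Fin.sum_univ_three, Fin.sum_univ_two, hg.1, hg.2, hh.1, hh.2] <;> ring

theorem lev_surjective (hF : Fintype.card F = 4) : Function.Surjective (lev (F := F) hF) := by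
  intro B
  have hd : Matrix.det !![(B : Matrix (Fin 2) (Fin 2) F) 0 0, (B : Matrix (Fin 2) (Fin 2) F) 0 1, 0; (B : Matrix (Fin 2) (Fin 2) F) 1 0, (B : Matrix (Fin 2) (Fin 2) F) 1 1, 0; 0, 0, (1 : F)] = 1 := by
    have := B.2
    rw [Matrix.det_fin_two] at this
    simp [Matrix.det_fin_three]
    linear_combination this
  refine ⟨⟨⟨_, hd⟩, by constructor <;> simp⟩, ?_⟩
  apply Subtype.ext
  ext i j
  fin_cases i <;> fin_cases j <;> simp [lev]

theorem lev_eq_one (hF : Fintype.card F = 4) (g : ↥(P1 F)) :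
    lev hF g = 1 ↔ pr (g : SpecialLinearGroup (Fin 3) F) ∈ (U1 : Subgroup Γ) := by
  have hd := corner_ne_zero g.2
  have h3 := cube_eq_one hF hd
  constructor
  · intro h
    have e00 := congrFun (congrFun (congrArg mat2 h) 0) 0
    have e01 := congrFun (congrFun (congrArg mat2 h) 0) 1
    have e10 := congrFun (congrFun (congrArg mat2 h) 1) 0
    have e11 := congrFun (congrFun (congrArg mat2 h) 1) 1
    simp [lev, hd] at e00 e01 e10 e11
    refine ⟨(g.1 : Matrix (Fin 3) (Fin 3) F) 1 2 / (g.1 : Matrix (Fin 3) (Fin 3) F) 2 2, (g.1 : Matrix (Fin 3) (Fin 3) F) 0 2 / (g.1 : Matrix (Fin 3) (Fin 3) F) 2 2, pr_eq_iff.2 ⟨(g.1 : Matrix (Fin 3) (Fin 3) F) 2 2, h3, ?_⟩⟩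
    ext i j
    fin_cases i <;> fin_cases j <;> simp [tt, e01, e10, g.2.1, g.2.2, mul_div_cancel₀ _ hd]
    · linear_combination ((g.1 : Matrix (Fin 3) (Fin 3) F) 2 2) * e00 - ((g.1 : Matrix (Fin 3) (Fin 3) F) 0 0) * h3
    · linear_combination ((g.1 : Matrix (Fin 3) (Fin 3) F) 2 2) * e11 - ((g.1 : Matrix (Fin 3) (Fin 3) F) 1 1) * h3
  · rintro ⟨b, c, h⟩
    obtain ⟨r, hr3, hr⟩ := pr_eq_iff.1 h
    apply Subtype.ext
    ext i j
    have e := fun i j => congrFun (congrFun hr i) j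
    fin_cases i <;> fin_cases j <;> simp [lev, e, tt] <;> linear_combination hr3

theorem exists_sl_apply (b c : F) (h : b ≠ 0 ∨ c ≠ 0) :
    ∃ B : SpecialLinearGroup (Fin 2) F, (B : Matrix (Fin 2) (Fin 2) F) *ᵥ ![1, 0] = ![c, b] := by
  by_cases hc : c = 0
  · have hb : b ≠ 0 := h.resolve_right (fun h => h hc)
    refine ⟨⟨!![0, -b⁻¹; b, 0], by simp [Matrix.det_fin_two, hb]⟩, ?_⟩
    ext i; fin_cases i <;> simp [hc]
  · refine ⟨⟨!![c, 0; b, c⁻¹], by simp [Matrix.det_fin_two, hc]⟩, ?_⟩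
    ext i; fin_cases i <;> simp

theorem good_U1 (hF : Fintype.card F = 4) : Good (U1 : Subgroup Γ) := by
  set N := Subgroup.normalizer ((U1 : Subgroup Γ) : Set Γ)
  refine ⟨?_, ?_, ?_⟩
  · rintro x ⟨a, b, c, rfl⟩
    rw [mem_normalizer_iff hF]
    constructor <;> simp [tt]
  · let f : ↥(P1 F) →* ↥N := ((pr (F := F)).comp (P1 F).subtype).codRestrict N
      (fun g => (mem_normalizer_iff hF g.1).2 g.2)
    have hfs : Function.Surjective f := by
      rintro ⟨x, hx⟩
      obtain ⟨g, rfl⟩ := pr_surjective x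
      exact ⟨⟨g, (mem_normalizer_iff hF g).1 hx⟩, rfl⟩
    let q : ↥(P1 F) →* ProjectiveSpecialLinearGroup (Fin 2) F := (QuotientGroup.mk' _).comp (lev hF)
    have hq : ∀ g, q g = 1 ↔ lev hF g = 1 := fun g => by
      show QuotientGroup.mk' _ (lev hF g) = 1 ↔ _
      rw [QuotientGroup.mk'_apply, QuotientGroup.eq_one_iff, Matrix.SpecialLinearGroup.mem_center_iff]
      constructor
      · rintro ⟨r, hr, e⟩
        have hr1 : r = 1 := by
          have hr' : r ^ 2 = 1 := by simpa using hr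
          have : (r - 1) ^ 2 = 0 := by linear_combination hr' + (1 - r) * two_eq_zero hF
          exact sub_eq_zero.1 (pow_eq_zero_iff (by norm_num) |>.1 this)
        apply Subtype.ext
        rw [← e, hr1]
        simp
      · intro e
        exact ⟨1, by simp, by rw [e]; simp⟩
    have hle : f.ker ≤ q.ker := by
      intro g hg
      rw [MonoidHom.mem_ker, hq, lev_eq_one]
      have : pr (g : SpecialLinearGroup (Fin 3) F) = 1 := congrArg Subtype.val hg
      rw [this]
      exact one_mem _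
    let φ := f.liftOfSurjective hfs ⟨q, hle⟩
    have hφ : ∀ g, φ (f g) = q g := fun g => f.liftOfRightInverse_comp_apply _ _ ⟨q, hle⟩ g
    refine ⟨φ, fun B => ?_, ?_⟩
    · obtain ⟨B', rfl⟩ := QuotientGroup.mk'_surjective _ B
      obtain ⟨g, hg⟩ := lev_surjective hF B'
      exact ⟨f g, by rw [hφ]; show QuotientGroup.mk' _ (lev hF g) = _; rw [hg]⟩
    · ext x
      obtain ⟨g, rfl⟩ := hfs x
      rw [MonoidHom.mem_ker, hφ, hq, lev_eq_one, Subgroup.mem_subgroupOf]
      rfl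
  · rintro x ⟨b, c, rfl⟩ y ⟨b', c', rfl⟩ hx hy
    have hbc : ∀ b c : F, pr (tt 0 b c) ≠ 1 → b ≠ 0 ∨ c ≠ 0 := fun b c h => by
      by_contra h'
      push Not at h'
      exact h (by rw [h'.1, h'.2, tt_zero, map_one])
    obtain ⟨B, hB⟩ := exists_sl_apply b c (hbc b c hx)
    obtain ⟨B', hB'⟩ := exists_sl_apply b' c' (hbc b' c' hy)
    have hM : ((B' * B⁻¹ : SpecialLinearGroup (Fin 2) F) : Matrix (Fin 2) (Fin 2) F) *ᵥ ![c, b] = ![c', b'] := by
      rw [← hB, Matrix.mulVec_mulVec]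
      change (mat2 (B' * B⁻¹ * B)) *ᵥ _ = _
      rw [inv_mul_cancel_right]
      exact hB'
    set M := B' * B⁻¹
    have hd : Matrix.det !![(M : Matrix (Fin 2) (Fin 2) F) 0 0, (M : Matrix (Fin 2) (Fin 2) F) 0 1, 0; (M : Matrix (Fin 2) (Fin 2) F) 1 0, (M : Matrix (Fin 2) (Fin 2) F) 1 1, 0; 0, 0, (1 : F)] = 1 := by
      have := M.2
      rw [Matrix.det_fin_two] at this
      simp [Matrix.det_fin_three]
      linear_combination this
    have hg : (⟨_, hd⟩ : SpecialLinearGroup (Fin 3) F) ∈ P1 F := by constructor <;> simp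
    refine ⟨pr ⟨_, hd⟩, (mem_normalizer_iff hF _).2 hg, ?_⟩
    rw [← map_inv, ← map_mul, ← map_mul, conj_tt hg]
    congr 1
    apply tt_congr rfl
    · have := congrFun hM 1
      simp [Matrix.mulVec, dotProduct, Fin.sum_univ_two] at this
      simpa using this
    · have := congrFun hM 0
      simp [Matrix.mulVec, dotProduct, Fin.sum_univ_two] at this
      simpa using this

/-- the antidiagonal -/
def Jm : Matrix (Fin 3) (Fin 3) F := !![0, 0, 1; 0, 1, 0; 1, 0, 0]

omit [Fintype F] in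
theorem Jm_sq : (Jm : Matrix (Fin 3) (Fin 3) F) * Jm = 1 := by
  ext i j; fin_cases i <;> fin_cases j <;> simp [Jm, Matrix.mul_apply, Fin.sum_univ_three]

omit [Fintype F] in
theorem Jm_transpose : (Jm : Matrix (Fin 3) (Fin 3) F)ᵀ = Jm := by
  ext i j; fin_cases i <;> fin_cases j <;> simp [Jm]

/-- inverse transpose followed by conjugation with the antidiagonal -/
def graphSL (g : SpecialLinearGroup (Fin 3) F) : SpecialLinearGroup (Fin 3) F :=
  ⟨Jm * ((g⁻¹ : SpecialLinearGroup (Fin 3) F) : Matrix (Fin 3) (Fin 3) F)ᵀ * Jm, by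
    rw [Matrix.det_mul, Matrix.det_mul, Matrix.det_transpose, (g⁻¹).2, mul_one, ← Matrix.det_mul, Jm_sq,
      Matrix.det_one]⟩

omit [Fintype F] in
theorem graphSL_mul (g h : SpecialLinearGroup (Fin 3) F) : graphSL (g * h) = graphSL g * graphSL h := by
  apply Subtype.ext
  show Jm * (mat3 (g * h)⁻¹)ᵀ * Jm = (Jm * (mat3 g⁻¹)ᵀ * Jm) * (Jm * (mat3 h⁻¹)ᵀ * Jm)
  simp only []
  rw [_root_.mul_inv_rev]
  change Jm * (mat3 h⁻¹ * mat3 g⁻¹)ᵀ * Jm = _
  rw [Matrix.transpose_mul]
  rw [show Jm * (mat3 g⁻¹)ᵀ * Jm * (Jm * (mat3 h⁻¹)ᵀ * Jm) = Jm * (mat3 g⁻¹)ᵀ * (Jm * Jm) * (mat3 h⁻¹)ᵀ * Jm by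
    simp only [Matrix.mul_assoc]]
  rw [Jm_sq, Matrix.mul_one]
  simp only [Matrix.mul_assoc]

/-- the graph automorphism as a homomorphism -/
def graphHom : SpecialLinearGroup (Fin 3) F →* SpecialLinearGroup (Fin 3) F :=
  MonoidHom.mk' graphSL graphSL_mul

omit [Fintype F] in
theorem graphHom_graphHom (g : SpecialLinearGroup (Fin 3) F) : graphHom (graphHom g) = g := by
  apply Subtype.ext
  show Jm * (mat3 (graphSL g)⁻¹)ᵀ * Jm = mat3 g
  rw [show (graphSL g)⁻¹ = graphSL g⁻¹ from (map_inv graphHom g).symm]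
  show Jm * (Jm * (mat3 (g⁻¹)⁻¹)ᵀ * Jm)ᵀ * Jm = mat3 g
  simp only []
  rw [inv_inv, Matrix.transpose_mul, Matrix.transpose_mul, Matrix.transpose_transpose, Jm_transpose]
  rw [show Jm * (Jm * ((g : Matrix (Fin 3) (Fin 3) F) * Jm)) * Jm = (Jm * Jm) * (g : Matrix (Fin 3) (Fin 3) F) * (Jm * Jm) by simp only [Matrix.mul_assoc]]
  rw [Jm_sq, Matrix.one_mul, Matrix.mul_one]

/-- the graph automorphism -/
def graphEquiv : SpecialLinearGroup (Fin 3) F ≃* SpecialLinearGroup (Fin 3) F :=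
  { toFun := graphHom, invFun := graphHom, left_inv := graphHom_graphHom,
    right_inv := graphHom_graphHom, map_mul' := map_mul graphHom }

omit [Fintype F] in
theorem graphEquiv_map_center :
    (Subgroup.center (SpecialLinearGroup (Fin 3) F)).map ((graphEquiv (F := F)) : SpecialLinearGroup (Fin 3) F →* SpecialLinearGroup (Fin 3) F) =
      Subgroup.center (SpecialLinearGroup (Fin 3) F) := by
  ext x
  constructor
  · rintro ⟨y, hy, rfl⟩
    refine Subgroup.mem_center_iff.2 fun z => ?_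
    obtain ⟨w, rfl⟩ := graphEquiv.surjective z
    show graphEquiv w * graphEquiv y = graphEquiv y * graphEquiv w
    rw [← map_mul, ← map_mul, Subgroup.mem_center_iff.1 hy w]
  · intro hx
    refine ⟨graphEquiv.symm x, Subgroup.mem_center_iff.2 fun z => graphEquiv.injective ?_,
      graphEquiv.apply_symm_apply x⟩
    rw [map_mul, map_mul, MulEquiv.apply_symm_apply, Subgroup.mem_center_iff.1 hx]

/-- the graph automorphism of `PSL₃` -/
noncomputable def graphPSL :
    ProjectiveSpecialLinearGroup (Fin 3) F ≃* ProjectiveSpecialLinearGroup (Fin 3) F :=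
  QuotientGroup.congr _ _ graphEquiv graphEquiv_map_center

omit [Fintype F] in
theorem graphPSL_tt (a b c : F) : graphPSL (pr (tt a b c)) = pr (tt (-b) (-a) (a * b - c)) := by
  show pr (graphHom (tt a b c)) = _
  congr 1
  apply Subtype.ext
  show Jm * (mat3 (tt a b c)⁻¹)ᵀ * Jm = mat3 (tt (-b) (-a) (a * b - c))
  simp only []
  rw [tt_inv]
  ext i j
  fin_cases i <;> fin_cases j <;> simp [tt, Jm, Matrix.mul_apply, Fin.sum_univ_three, Matrix.vecHead, Matrix.vecTail]

omit [Fintype F] in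
theorem map_T0 : (T0 : Subgroup Γ).map (graphPSL : Γ ≃* Γ).toMonoidHom = T0 := by
  ext x
  constructor
  · rintro ⟨y, ⟨a, b, c, rfl⟩, rfl⟩
    exact ⟨_, _, _, graphPSL_tt a b c⟩
  · rintro ⟨a, b, c, rfl⟩
    refine ⟨pr (tt (-b) (-a) (a * b - c)), ⟨_, _, _, rfl⟩, ?_⟩
    show graphPSL _ = _
    rw [graphPSL_tt]
    congr 1
    apply tt_congr <;> ring

omit [Fintype F] in
theorem map_U1 : (U1 : Subgroup Γ).map (graphPSL : Γ ≃* Γ).toMonoidHom = U2 := by
  ext x
  constructor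
  · rintro ⟨y, ⟨b, c, rfl⟩, rfl⟩
    exact ⟨-b, -c, by show graphPSL _ = _; rw [graphPSL_tt]; congr 1; apply tt_congr <;> ring⟩
  · rintro ⟨a, c, rfl⟩
    refine ⟨pr (tt 0 (-a) (-c)), ⟨_, _, rfl⟩, ?_⟩
    show graphPSL _ = _
    rw [graphPSL_tt]
    congr 1
    apply tt_congr <;> ring

theorem good_U2 (hF : Fintype.card F = 4) : Good (U2 : Subgroup Γ) := by
  obtain ⟨hT, ⟨φ, hφs, hφk⟩, htr⟩ := good_U1 (F := F) hF
  set e : Γ ≃* Γ := graphPSL
  have hN : Subgroup.normalizer ((U2 : Subgroup Γ) : Set Γ) =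
      (Subgroup.normalizer ((U1 : Subgroup Γ) : Set Γ)).map e.toMonoidHom := by
    rw [← map_U1, Subgroup.map_equiv_normalizer_eq]
  have h2 : ∀ y, e y ∈ (U2 : Subgroup Γ) ↔ y ∈ (U1 : Subgroup Γ) := fun y => by
    rw [← map_U1]; exact Subgroup.mem_map_iff_mem e.injective
  refine ⟨?_, ?_, ?_⟩
  · rw [hN, ← map_T0]
    exact Subgroup.map_mono hT
  · let r := (MulEquiv.subgroupCongr hN).trans
      (Subgroup.equivMapOfInjective _ e.toMonoidHom e.injective).symm
    have hr : ∀ x, e ((r x : ↥(Subgroup.normalizer ((U1 : Subgroup Γ) : Set Γ))) : Γ) = (x : Γ) := by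
      intro x
      have := congrArg Subtype.val ((Subgroup.equivMapOfInjective _ e.toMonoidHom e.injective).apply_symm_apply
        (MulEquiv.subgroupCongr hN x))
      rwa [Subgroup.coe_equivMapOfInjective_apply] at this
    refine ⟨φ.comp r.toMonoidHom, hφs.comp r.surjective, ?_⟩
    ext x
    rw [MonoidHom.mem_ker, MonoidHom.comp_apply, ← MonoidHom.mem_ker, hφk, Subgroup.mem_subgroupOf,
      Subgroup.mem_subgroupOf, ← hr x, h2]
    rfl
  · intro x hx y hy hx1 hy1
    rw [← map_U1, Subgroup.mem_map_equiv] at hx hy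
    obtain ⟨n, hn, h⟩ := htr _ hx _ hy (by simpa using hx1) (by simpa using hy1)
    refine ⟨e n, hN ▸ Subgroup.mem_map_of_mem _ hn, ?_⟩
    have := congrArg e h
    rwa [map_mul, map_mul, map_inv, MulEquiv.apply_symm_apply, MulEquiv.apply_symm_apply] at this

theorem card_T0_eq (hF : Fintype.card F = 4) :
    Nat.card ↥(T0 : Subgroup Γ) = 64 ∧ Nat.card Γ = 20160 := by
  refine ⟨by rw [card_T0, Nat.card_eq_fintype_card, hF]; norm_num, ?_⟩
  have h1 := Classical.card_psl_mul (ι := Fin 3) (F := F)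
  have h2 := Classical.card_sl_mul hF 3 (by norm_num)
  rw [Fintype.card_fin, hF, show Nat.gcd 3 (4 - 1) = 3 from rfl] at h1
  simp [Fin.prod_univ_three] at h2
  omega

end Cfsg.Agent.PSLThreeFour
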